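import Cfsg.Agent.SuzDeg.Exc
import Cfsg.Prelude.Def_DegreeGraph

set_option autoImplicit false
set_option linter.unusedSectionVars false

/-!
Self-centralizing abelian subgroups: exceptional characters with integral data.
-/

namespace Cfsg.Agent.SuzDeg

open scoped ComplexConjugate BigOperators
open Cfsg Cfsg.Agent.CharBase Cfsg.Agent.Char

universe u

/-- an abelian subgroup which is the centralizer of each of its nontrivial elements -/
structure ST {G : Type u} [Group G] (T : Subgroup G) (w : ℕ) : Prop where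
  comm : ∀ x ∈ T, ∀ y ∈ T, x * y = y * x
  cent : ∀ y ∈ T, y ≠ 1 → Subgroup.centralizer ({y} : Set G) = T
  norm : Nat.card (Subgroup.normalizer (T : Set G)) = w * Nat.card T
  one_lt : 1 < Nat.card T

theorem ST.mem_norm {G : Type u} [Group G] {T : Subgroup G} {w : ℕ} (hT : ST T w) {x y : G} (hy : y ∈ T) (hy1 : y ≠ 1)
    (h : x * y * x⁻¹ ∈ T) : x ∈ Subgroup.normalizer (T : Set G) := by
  have h1 : x * y * x⁻¹ ≠ 1 := by
    intro e
    apply hy1
    calc y = x⁻¹ * (x * y * x⁻¹) * x := by group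
      _ = 1 := by rw [e]; group
  have c1 := hT.cent y hy hy1
  have c2 := hT.cent _ h h1
  rw [Subgroup.mem_normalizer_iff]
  intro g
  have e1 : g ∈ T ↔ g * y = y * g := by
    conv_lhs => rw [← c1]
    exact Subgroup.mem_centralizer_singleton_iff
  have e2 : x * g * x⁻¹ ∈ T ↔ (x * g * x⁻¹) * (x * y * x⁻¹) = (x * y * x⁻¹) * (x * g * x⁻¹) := by
    conv_lhs => rw [← c2]
    exact Subgroup.mem_centralizer_singleton_iff
  show g ∈ T ↔ x * g * x⁻¹ ∈ T
  rw [e1, e2]
  constructor
  · intro h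
    calc (x * g * x⁻¹) * (x * y * x⁻¹) = x * (g * y) * x⁻¹ := by group
      _ = _ := by rw [h]; group
  · intro h
    calc g * y = x⁻¹ * ((x * g * x⁻¹) * (x * y * x⁻¹)) * x := by group
      _ = _ := by rw [h]; group

/-- the trivial intersection data -/
def ST.data {G : Type u} [Group G] {T : Subgroup G} {w : ℕ} (hT : ST T w) : H74.TIData G where
  P := T
  C := T
  N := Subgroup.normalizer (T : Set G)
  hPC := le_rfl
  hcent := fun u hu c hc => hT.comm u hu c hc
  hCN := Subgroup.le_normalizer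
  hN := fun x hx c hc => (Subgroup.mem_normalizer_iff''.1 hx c).1 hc
  hNP := fun x hx c hc => (Subgroup.mem_normalizer_iff''.1 hx c).1 hc
  hfree := fun x _ u hu hu1 h => by
    rw [← hT.cent u hu hu1, Subgroup.mem_centralizer_singleton_iff]
    calc x * u = x * (x⁻¹ * u * x) := by rw [h]
      _ = u * x := by group
  π := MonoidHom.id _
  hπ := fun _ => rfl
  hTI := fun x c c' h h1 => by
    have hc : (c' : G) ≠ 1 := fun h2 => h1 (Subtype.ext h2)
    refine hT.mem_norm (y := (c' : G)) c'.2 hc ?_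
    have : x * (c' : G) * x⁻¹ = c := by rw [h]; group
    rw [this]
    exact c.2

theorem ST.full {G : Type u} [Group G] {T : Subgroup G} {w : ℕ} (hT : ST T w) : Exc.Full hT.data where
  ker := fun _ h => h
  comm := fun a b => Subtype.ext (hT.comm a a.2 b b.2)

theorem ST.e_eq {G : Type u} [Group G] [Finite G] {T : Subgroup G} {w : ℕ} (hT : ST T w) : hT.data.e = w := by
  have h := hT.norm
  have h1 : 0 < Nat.card T := Nat.card_pos
  change Nat.card (Subgroup.normalizer (T : Set G)) / Nat.card T = w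
  rw [h, Nat.mul_div_cancel _ h1]

/-- a nontrivial group has a nontrivial irreducible character -/
theorem exists_ne_one {G : Type u} [Group G] [Finite G] (h : 1 < Nat.card G) : ∃ θ : IrrCharacter G, θ ≠ oneIrr G := by
  classical
  cases nonempty_fintype G
  have : Fintype (IrrCharacter G) := Fintype.ofFinite _
  by_contra hc
  push Not at hc
  have h1 := sum_norm_sq (1 : G)
  have h2 : (Finset.univ : Finset (IrrCharacter G)) = {oneIrr G} := by
    ext χ
    simp [hc χ]
  rw [h2, Finset.sum_singleton, oneIrr_apply] at h1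
  have h3 : Nat.card (Subgroup.centralizer ({1} : Set G)) = Nat.card G := by
    have : Subgroup.centralizer ({1} : Set G) = ⊤ := by
      rw [eq_top_iff]
      intro x _
      rw [Subgroup.mem_centralizer_singleton_iff]
      simp
    rw [this]
    exact Nat.card_congr Subgroup.topEquiv.toEquiv
  rw [h3] at h1
  have h4 : (1 : ℝ) < Nat.card G := by exact_mod_cast h
  rw [← h1] at h4
  norm_num at h4

/-- the degree as a natural number -/
noncomputable def dg {G : Type u} [Group G] (χ : IrrCharacter G) : ℕ := charDegree (χ : G → ℂ)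

theorem rdeg_eq {G : Type u} [Group G] [Finite G] (χ : IrrCharacter G) : rdeg χ = dg χ := by
  obtain ⟨n, -, h, h'⟩ := rdeg_spec χ
  rw [dg, charDegree, h', Complex.natCast_re, Nat.floor_natCast, h]

theorem dg_spec {G : Type u} [Group G] [Finite G] (χ : IrrCharacter G) : (χ : G → ℂ) 1 = dg χ := by
  rw [coe_rdeg, rdeg_eq]; simp

theorem dg_pos {G : Type u} [Group G] [Finite G] (χ : IrrCharacter G) : 0 < dg χ := by
  have := rdeg_pos χ
  rw [rdeg_eq] at this
  exact_mod_cast this

theorem dg_dvd {G : Type u} [Group G] [Finite G] (χ : IrrCharacter G) : dg χ ∣ Nat.card G := by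
  cases nonempty_fintype G
  exact degree_dvd_card χ.2 (dg_spec χ)

theorem dg_one {G : Type u} [Group G] [Finite G] : dg (oneIrr G) = 1 := by
  have := dg_spec (oneIrr G)
  rw [oneIrr_apply] at this
  exact_mod_cast this.symm

theorem sum_dg_sq {G : Type u} [Group G] [Finite G] [Fintype (IrrCharacter G)] :
    ∑ χ : IrrCharacter G, (dg χ : ℤ) ^ 2 = Nat.card G := by
  have h := sum_sq_degree (G := G)
  simp only [dg_spec] at h
  exact_mod_cast h

/-- the exceptional characters of a self-centralizing abelian subgroup -/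
theorem ST.main {G : Type u} [Group G] [Finite G] {T : Subgroup G} {w : ℕ} (hT : ST T w)
    [Fintype (IrrCharacter G)] [DecidableEq (IrrCharacter G)] :
    ∃ (E : Finset (IrrCharacter G)) (ε ce : ℤ) (c : IrrCharacter G → ℤ) (d : ℕ), (ε = 1 ∨ ε = -1) ∧
      (∀ χ ∉ E, ∀ y ∈ T, y ≠ 1 → (χ : G → ℂ) y = c χ) ∧ (∀ χ ∈ E, c χ = ce ∧ dg χ = d) ∧
      (∀ χ ∉ E, (Nat.card T : ℤ) ∣ dg χ - c χ) ∧ (∀ χ ∈ E, (Nat.card T : ℤ) ∣ dg χ - ce - ε * w) ∧
      ((E.card : ℤ) * w = Nat.card T - 1) ∧
      (∑ χ ∈ Finset.univ.filter (· ∉ E), (c χ) ^ 2 + E.card * ce ^ 2 - 2 * ε * ce = w) ∧ (2 ≤ E.card → oneIrr G ∉ E) ∧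
      (∑ χ, c χ * dg χ = ε * d) ∧
      (∀ χ ∈ E, ∀ s : ℤ, (∀ y ∈ T, y ≠ 1 → (χ : G → ℂ) y = s) → E.card = 1) := by
  classical
  cases nonempty_fintype G
  have : Fintype hT.data.C := Fintype.ofFinite _
  have : Fintype hT.data.N := Fintype.ofFinite _
  obtain ⟨E, ε, ce, c, a, d, hε, h1, h2, h3, h4, h5, h6, h7⟩ := Exc.main hT.full (exists_ne_one hT.one_lt) (by
    intro y hy
    have h := hT.cent y.1 y.2 (fun h => hy (Subtype.ext h))
    rw [h]
    rfl)
  rw [hT.e_eq] at h3 h5 h6
  have hcard : Nat.card hT.data.C = Nat.card T := rfl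
  rw [hcard] at h3 h4 h5
  have hT1 := hT.one_lt
  have hw : (0 : ℤ) < (E.card : ℤ) * w := by rw [h5]; omega
  have hE0 : 0 < E.card := by
    rcases Nat.eq_zero_or_pos E.card with h | h
    · rw [h] at hw; simp at hw
    · exact h
  have hw0 : (w : ℤ) ≠ 0 := by
    rintro h
    rw [h] at hw; simp at hw
  obtain ⟨χ0, hχ0⟩ := Finset.card_pos.1 hE0
  have hd : d = dg χ0 := by rw [← (h2 χ0 hχ0).2, rdeg_eq]
  have h3' : ∀ χ : IrrCharacter G, (Nat.card T : ℤ) * a χ = dg χ + (Nat.card T - 1) * c χ - ε * w * (if χ ∈ E then 1 else 0) := by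
    intro χ
    have := h3 χ
    rw [rdeg_eq] at this
    split_ifs at this ⊢ <;> exact_mod_cast this
  have h4' : ∀ χ : IrrCharacter G, (Nat.card T : ℤ) * a χ = (Nat.card T : ℤ) * a χ := fun _ => rfl
  have hdeg : ∀ χ ∈ E, dg χ = dg χ0 := by
    intro χ hχ
    have := (h2 χ hχ).2
    rw [rdeg_eq, hd] at this
    exact_mod_cast this
  refine ⟨E, ε, ce, c, dg χ0, hε, fun χ hχ y hy hy1 => h1 χ hχ ⟨y, hy⟩ (fun h => hy1 (congrArg Subtype.val h)),
    fun χ hχ => ⟨(h2 χ hχ).1, hdeg χ hχ⟩, ?_, ?_, h5, h6, h7, ?_, ?_⟩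
  · intro χ hχ
    have := h3' χ
    rw [if_neg hχ] at this
    exact ⟨a χ - c χ, by linear_combination -this⟩
  · intro χ hχ
    have := h3' χ
    rw [if_pos hχ, (h2 χ hχ).1] at this
    exact ⟨a χ - ce, by linear_combination -this⟩
  · -- the sum
    have k1 : ∑ χ : IrrCharacter G, (dg χ : ℝ) * rT hT.data.C χ = Nat.card G := by
      have k2 : ∀ χ : IrrCharacter G, (dg χ : ℝ) * rT hT.data.C χ = ∑ y : hT.data.C, ((χ : G → ℂ) 1 * (χ : G → ℂ) y).re := by
        intro χ
        rw [rT, Finset.mul_sum]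
        refine Finset.sum_congr rfl fun y _ => ?_
        rw [dg_spec, Complex.mul_re, Complex.natCast_re, Complex.natCast_im, zero_mul, sub_zero]
      rw [Finset.sum_congr rfl fun χ _ => k2 χ, Finset.sum_comm]
      have k3 : ∀ y : hT.data.C, ∑ χ : IrrCharacter G, ((χ : G → ℂ) 1 * (χ : G → ℂ) y).re = if y = 1 then (Nat.card G : ℝ) else 0 := by
        intro y
        have k4 := congrArg Complex.re (sum_degree_mul (G := G) (y : G))
        rw [Complex.re_sum] at k4
        rw [k4]
        by_cases hy : y = 1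
        · have hy' : (y : G) = 1 := congrArg Subtype.val hy
          rw [if_pos hy, if_pos hy', Complex.natCast_re]
        · have hy' : (y : G) ≠ 1 := fun h => hy (Subtype.ext h)
          rw [if_neg hy, if_neg hy', Complex.zero_re]
      rw [Finset.sum_congr rfl fun y _ => k3 y, Finset.sum_ite_eq' Finset.univ (1 : hT.data.C), if_pos (Finset.mem_univ _)]
    have k5 : ∑ χ : IrrCharacter G, (dg χ : ℤ) * ((Nat.card T : ℤ) * a χ) = (Nat.card G : ℤ) := by
      rw [Finset.sum_congr rfl fun χ _ => by rw [h4 χ]] at k1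
      exact_mod_cast k1
    have k6 : ∑ χ : IrrCharacter G, ((dg χ : ℤ) ^ 2 + ((Nat.card T : ℤ) - 1) * (c χ * dg χ) - ε * w * (if χ ∈ E then (dg χ : ℤ) else 0)) =
        (Nat.card G : ℤ) := by
      rw [← k5]
      refine Finset.sum_congr rfl fun χ _ => ?_
      rw [h3' χ]
      split_ifs <;> ring
    rw [Finset.sum_sub_distrib, Finset.sum_add_distrib, sum_dg_sq, ← Finset.mul_sum, ← Finset.mul_sum] at k6
    have k7 : ∑ χ : IrrCharacter G, (if χ ∈ E then (dg χ : ℤ) else 0) = E.card * dg χ0 := by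
      rw [← Finset.sum_filter, Finset.filter_mem_eq_inter, Finset.univ_inter,
        Finset.sum_congr rfl (fun χ hχ => by rw [hdeg χ hχ]), Finset.sum_const, nsmul_eq_mul]
    rw [k7] at k6
    have k8 : ((Nat.card T : ℤ) - 1) * (∑ χ : IrrCharacter G, c χ * dg χ) = ((Nat.card T : ℤ) - 1) * (ε * dg χ0) := by
      linear_combination k6 + ε * dg χ0 * h5
    have k9 : (Nat.card T : ℤ) - 1 ≠ 0 := by omega
    exact mul_left_cancel₀ k9 k8
  · intro χ hχ s hs
    have k1 : rT hT.data.C χ = dg χ + (Nat.card T - 1) * s := by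
      rw [rT, ← Finset.add_sum_erase Finset.univ _ (Finset.mem_univ (1 : hT.data.C))]
      have k2 : ((χ : G → ℂ) ((1 : hT.data.C) : G)).re = dg χ := by
        have : (χ : G → ℂ) ((1 : hT.data.C) : G) = dg χ := dg_spec χ
        rw [this, Complex.natCast_re]
      rw [k2]
      congr 1
      rw [Finset.sum_congr rfl (fun y hy => by
        rw [hs y.1 y.2 (fun h => Finset.ne_of_mem_erase hy (Subtype.ext h)), Complex.intCast_re]), Finset.sum_const,
        Finset.card_erase_of_mem (Finset.mem_univ _), Finset.card_univ, nsmul_eq_mul]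
      have : Fintype.card hT.data.C = Nat.card T := (Nat.card_eq_fintype_card).symm
      rw [this, Nat.cast_sub hT1.le, Nat.cast_one]
    rw [h4] at k1
    have k2 : (Nat.card T : ℤ) * a χ = dg χ + (Nat.card T - 1) * s := by exact_mod_cast k1
    have k3 := h3' χ
    rw [if_pos hχ, (h2 χ hχ).1, k2] at k3
    have k4 : (w : ℤ) * (E.card * (s - ce)) = w * (-ε) := by
      linear_combination k3 + (s - ce) * h5
    have k5 := mul_left_cancel₀ hw0 k4
    have k6 : (E.card : ℤ) ∣ 1 := by
      rcases hε with h | h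
      · exact ⟨-(s - ce), by rw [h] at k5; linear_combination k5⟩
      · exact ⟨s - ce, by rw [h] at k5; linear_combination -k5⟩
    have k7 : (E.card : ℤ) = 1 := Int.eq_one_of_dvd_one (by positivity) k6
    exact_mod_cast k7

end Cfsg.Agent.SuzDeg
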